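import Mathlib

set_option autoImplicit false
set_option linter.style.haveILetI false
set_option linter.unusedSectionVars false

/-!
# Vaughan-Lee's bound `|G'| ≤ p ^ (b (b + 1) / 2)`: definitions

`Fn p G` : "functionals" `G →* Multiplicative (ZMod p)`; their kernels are the maximal subgroups.
`Phi p G` : the intersection of all kernels of functionals.
`Zs φ` : for `M = ker φ`, the subgroup `Z*_M = {m ∈ M | [m, G] ⊆ M'}`.
`T n = n (n + 1) / 2`.
-/

namespace Cfsg.Agent.Helper5.VL

open Subgroup
open scoped commutatorElement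

universe u

/-- Functionals. -/
abbrev Fn (p : ℕ) (G : Type u) [Group G] := G →* Multiplicative (ZMod p)

instance instFiniteFn (p : ℕ) [Fact p.Prime] (G : Type u) [Group G] [Finite G] : Finite (Fn p G) :=
  Finite.of_injective (fun f => (f : G → Multiplicative (ZMod p))) DFunLike.coe_injective

/-- The intersection of the kernels of all functionals. -/
def Phi (p : ℕ) (G : Type u) [Group G] : Subgroup G := ⨅ φ : Fn p G, φ.ker

/-- Triangular numbers. -/
def T (n : ℕ) : ℕ := n * (n + 1) / 2

theorem T_succ (n : ℕ) : T (n + 1) = T n + (n + 1) := by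
  unfold T
  have h : (n + 1) * (n + 1 + 1) = n * (n + 1) + 2 * (n + 1) := by ring
  rw [h, Nat.add_mul_div_left _ _ (by norm_num : 0 < 2)]

theorem T_zero : T 0 = 0 := by simp [T]

variable {p : ℕ} {G : Type u} [Group G]

/-- `Z*_M` for `M = ker φ`: the elements of `M` that are central modulo `M'`. -/
def Zs (φ : Fn p G) : Subgroup G :=
  φ.ker ⊓ (Subgroup.center (G ⧸ ⁅φ.ker, φ.ker⁆)).comap (QuotientGroup.mk' ⁅φ.ker, φ.ker⁆)

theorem mem_Zs {φ : Fn p G} {m : G} :
    m ∈ Zs φ ↔ m ∈ φ.ker ∧ ∀ g : G, ⁅m, g⁆ ∈ ⁅φ.ker, φ.ker⁆ := by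
  unfold Zs
  rw [Subgroup.mem_inf, Subgroup.mem_comap, Subgroup.mem_center_iff]
  refine and_congr Iff.rfl ⟨fun h g => ?_, fun h q => ?_⟩
  · have := h (QuotientGroup.mk' _ g)
    rw [← map_mul, ← map_mul, QuotientGroup.mk'_eq_mk'] at this
    obtain ⟨z, hz, hzeq⟩ := this
    -- g * m * z = m * g
    have hz' : z = m⁻¹ * g⁻¹ * m * g := by
      have : z = (g * m)⁻¹ * (g * m * z) := by group
      rw [this, hzeq]; group
    have hc : ⁅m, g⁆ = (g * m) * z * (g * m)⁻¹ := by
      rw [commutatorElement_def, hz']; group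
    rw [hc]
    exact (inferInstance : (⁅φ.ker, φ.ker⁆).Normal).conj_mem z hz (g * m)
  · induction q using QuotientGroup.induction_on with
    | H g =>
      have hg := h g
      show (QuotientGroup.mk' _ g) * (QuotientGroup.mk' _ m) = (QuotientGroup.mk' _ m) * (QuotientGroup.mk' _ g)
      rw [← map_mul, ← map_mul, QuotientGroup.mk'_eq_mk']
      refine ⟨(g * m)⁻¹ * ⁅m, g⁆ * (g * m), ?_, ?_⟩
      · have := (inferInstance : (⁅φ.ker, φ.ker⁆).Normal).conj_mem _ hg (g * m)⁻¹
        simpa using this
      · rw [commutatorElement_def]; group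

/-- The order of the derived subgroup of a subgroup `K` of `G`. -/
noncomputable abbrev der (K : Subgroup G) : ℕ := Nat.card (⁅K, K⁆ : Subgroup G)

theorem der_top : der (⊤ : Subgroup G) = Nat.card (commutator G) := by
  unfold der; rw [commutator_def]

theorem der_eq_card_commutator (K : Subgroup G) : der K = Nat.card (commutator K) := by
  unfold der
  rw [← Subgroup.map_subtype_commutator]
  exact Nat.card_congr ((commutator K).equivMapOfInjective K.subtype K.subtype_injective).symm.toEquiv

theorem Zs_le_ker (φ : Fn p G) : Zs φ ≤ φ.ker := inf_le_left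

theorem Phi_le_ker (φ : Fn p G) : Phi p G ≤ φ.ker := iInf_le _ φ

theorem mem_Phi {x : G} : x ∈ Phi p G ↔ ∀ φ : Fn p G, φ x = 1 := by
  unfold Phi
  rw [Subgroup.mem_iInf]
  exact forall_congr' fun φ => MonoidHom.mem_ker

end Cfsg.Agent.Helper5.VL
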