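import Mathlib
import Cfsg.Agent.Helper5.VL.Defs

set_option autoImplicit false

/-!
# Vaughan-Lee: the local form of the induction hypothesis
-/

namespace Cfsg.Agent.Helper5.VL

open Subgroup

universe u

/-- The local form of the induction hypothesis. -/
def IHyp (p : ℕ) (G : Type u) [Group G] : Prop :=
  ∀ H : Subgroup G, H ≠ ⊤ → ∀ ψ : Fn p H, ψ ≠ 1 → ∀ c : ℕ,
    (∀ y : H, ψ y ≠ 1 → (centralizer ({y} : Set H)).index ≤ p ^ c) →
    Nat.card (commutator H) ≤ p ^ T c

end Cfsg.Agent.Helper5.VL
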