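import Mathlib
import Cfsg.Agent.Helper5.VL.Defs
import Cfsg.Agent.Helper5.VL.IHyp
import Cfsg.Agent.Helper18.VLMAXP
import Cfsg.Agent.Helper18.VLIDX
import Cfsg.Agent.Helper10.VLUNION2
import Cfsg.Agent.Helper8.VLSTEP1
import Cfsg.Agent.Helper8.VLCLGOOD
import Cfsg.Agent.Helper11.VLCYC
import Cfsg.Agent.Helper18.VLFREE
import Cfsg.Agent.Helper5.VLCLPT
import Cfsg.Agent.Helper5.VLDICH
import Cfsg.Agent.Helper22.VLCASEB

set_option autoImplicit false
set_option linter.style.haveILetI false
set_option linter.unusedSectionVars false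

/-!
# Vaughan-Lee's theorem: the main induction

A finite `p`-group all of whose conjugacy classes have at most `p ^ b` elements has
`|G'| ≤ p ^ (b (b + 1) / 2)`.  We prove the relative version `VL_rel` (only the elements outside a fixed
maximal subgroup `ker φ0` are assumed to have small classes) by induction on `|G|`.
-/

namespace Cfsg.Agent.Helper5.VL

open Subgroup
open scoped commutatorElement

universe u
variable {p : ℕ} [Fact p.Prime] {G : Type u} [Group G] [Finite G]

/-- MAINCLAIM: a good subgroup of index `p ^ m` gives the bound, by induction on `m`. -/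
theorem main_claim (hG : IsPGroup p G) (IH : IHyp p G) {φ0 : Fn p G} (hφ0 : φ0 ≠ 1) {b : ℕ}
    (hb : ∀ x : G, φ0 x ≠ 1 → (centralizer ({x} : Set G)).index ≤ p ^ b)
    (hstep : ∀ φ : Fn p G, ¬ φ0.ker ≤ φ.ker → ⁅φ.ker, φ.ker⁆ ≠ commutator G) :
    ∀ (m : ℕ) (K : Subgroup G), Phi p G ≤ K → ¬ K ≤ φ0.ker → K.index = p ^ m →
      der K ≤ p ^ T (b - m) → Nat.card (commutator G) ≤ p ^ T b := by
  have hp : p.Prime := Fact.out
  intro m
  induction m with
  | zero =>
    intro K hK hK0 hm hgood
    rw [pow_zero, Subgroup.index_eq_one] at hm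
    subst hm
    rw [der_top] at hgood
    simpa using hgood
  | succ m ihm =>
    intro K hK hK0 hm hgood
    by_cases hfree : ∃ x : G, φ0 x ≠ 1 ∧ x ∉ K ∧ centralizer ({x} : Set G) ≤ K ⊔ zpowers x
    · obtain ⟨x, hx0, hxK, hxf⟩ := hfree
      obtain ⟨hidx, hder⟩ := free_step hb hK hm hx0 hxK hxf hgood
      rw [Nat.add_sub_cancel] at hidx hder
      exact ihm (K ⊔ zpowers x) (hK.trans le_sup_left) (fun h => hK0 (le_sup_left.trans h)) hidx hder
    · push Not at hfree
      have hKtop : K ≠ ⊤ := by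
        intro h
        rw [h, Subgroup.index_top] at hm
        have := Nat.one_lt_pow (n := m + 1) (by omega) hp.one_lt
        omega
      rcases Nat.eq_zero_or_pos m with hm0 | hmpos
      · -- `K` is maximal: any affine element outside `K` is `K`-free
        subst hm0
        obtain ⟨x, hx0, hxK⟩ := exists_affine_not_mem hφ0 hKtop
        exfalso
        apply hfree x hx0 hxK
        have h1 := index_sup_zpowers hK hxK
        rw [hm, zero_add, pow_one] at h1
        have h2 : (K ⊔ zpowers x).index = 1 := by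
          have := Nat.eq_of_mul_eq_mul_right hp.pos (by rw [h1, one_mul] : (K ⊔ zpowers x).index * p = 1 * p)
          exact this
        rw [Subgroup.index_eq_one] at h2
        rw [h2]
        exact le_top
      · obtain ⟨hp2, hcl, hZ, hU⟩ :=
          dichotomy hG hφ0 hstep hK hK0 hm (by omega) (fun x hx0 hxK => hfree x hx0 hxK)
        obtain ⟨hmb, _⟩ := closed_good IH hb hK hK0 hKtop hcl hm
        exact caseB_bound hG hφ0 hb hp2 hK hK0 hm (by omega) hmb hgood hZ hU

/-- MAINSTEP: the induction step of the relative theorem. -/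
theorem main_step (hG : IsPGroup p G) (IH : IHyp p G) {φ0 : Fn p G} (hφ0 : φ0 ≠ 1) {b : ℕ}
    (hb : ∀ x : G, φ0 x ≠ 1 → (centralizer ({x} : Set G)).index ≤ p ^ b) :
    Nat.card (commutator G) ≤ p ^ T b := by
  have hp : p.Prime := Fact.out
  by_cases hstep : ∃ φ : Fn p G, ¬ φ0.ker ≤ φ.ker ∧ ⁅φ.ker, φ.ker⁆ = commutator G
  · obtain ⟨φ, hφ, heq⟩ := hstep
    exact step_one IH hφ0 hb hφ heq
  · push Not at hstep
    obtain ⟨y, hy0, hycl⟩ := exists_closed_point hG hφ0 hstep
    by_cases hL : Phi p G ⊔ zpowers y = ⊤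
    · rw [cyclic_case hG hL]
      exact Nat.one_le_pow _ _ hp.pos
    · have hyL : y ∈ Phi p G ⊔ zpowers y := le_sup_right (α := Subgroup G) (mem_zpowers y)
      have hL0 : ¬ Phi p G ⊔ zpowers y ≤ φ0.ker := fun h => hy0 (MonoidHom.mem_ker.mp (h hyL))
      obtain ⟨m, hm⟩ : ∃ m, (Phi p G ⊔ zpowers y).index = p ^ m := by
        obtain ⟨n, hn⟩ := IsPGroup.iff_card.mp hG
        have hdvd : (Phi p G ⊔ zpowers y).index ∣ p ^ n := hn ▸ Subgroup.index_dvd_card _
        obtain ⟨k, _, hk⟩ := (Nat.dvd_prime_pow hp).mp hdvd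
        exact ⟨k, hk⟩
      obtain ⟨_, hgood⟩ := closed_good IH hb le_sup_left hL0 hL hycl hm
      exact main_claim hG IH hφ0 hb hstep m _ le_sup_left hL0 hm hgood

/-- The relative Vaughan-Lee theorem. -/
theorem VL_rel (p : ℕ) [Fact p.Prime] : ∀ (n : ℕ) (G : Type u) [Group G] [Finite G],
    Nat.card G = n → IsPGroup p G → ∀ φ0 : Fn p G, φ0 ≠ 1 → ∀ b : ℕ,
    (∀ x : G, φ0 x ≠ 1 → (centralizer ({x} : Set G)).index ≤ p ^ b) →
    Nat.card (commutator G) ≤ p ^ T b := by
  intro n
  induction n using Nat.strong_induction_on with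
  | _ n ih =>
    intro G _ _ hn hG φ0 hφ0 b hb
    have IH : IHyp p G := by
      intro H hH ψ hψ c hc
      have hlt : Nat.card H < n := by
        rw [← hn]
        have h1 : H.index ≠ 1 := fun h => hH (Subgroup.index_eq_one.mp h)
        have h2 := H.card_mul_index
        have h3 : 0 < Nat.card H := Nat.card_pos
        have h4 : H.index ≠ 0 := Subgroup.index_ne_zero_of_finite
        have h5 : 2 ≤ H.index := by omega
        nlinarith
      exact ih (Nat.card H) hlt H rfl (hG.to_subgroup H) ψ hψ c hc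
    exact main_step hG IH hφ0 hb

/-- Vaughan-Lee's theorem. -/
theorem vaughan_lee {G : Type u} [Group G] [Finite G] {p : ℕ} [Fact p.Prime] (hG : IsPGroup p G)
    (b : ℕ) (hb : ∀ x : G, (Subgroup.centralizer ({x} : Set G)).index ≤ p ^ b) :
    Nat.card (commutator G) ≤ p ^ (b * (b + 1) / 2) := by
  have hp : p.Prime := Fact.out
  by_cases htop : (⊥ : Subgroup G) = ⊤
  · have : Subsingleton G := by
      rw [← Subgroup.subsingleton_iff (G := G)] at *
      exact subsingleton_of_bot_eq_top htop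
    rw [Nat.card_unique]
    exact Nat.one_le_pow _ _ hp.pos
  · obtain ⟨φ0, hφ0, _⟩ := maxp hG htop
    exact VL_rel p (Nat.card G) G rfl hG φ0 hφ0 b (fun x _ => hb x)

end Cfsg.Agent.Helper5.VL
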